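import Groth.Agent.AbVar.K519.DegAlg
import Groth.Agent.AbVar.K519.CharAlg
import Mathlib.NumberTheory.NumberField.Basic
import Mathlib.RingTheory.Norm.Basic
import Mathlib.LinearAlgebra.Matrix.Charpoly.Minpoly
import Mathlib.FieldTheory.PrimitiveElement
import Mathlib.FieldTheory.Minpoly.IsIntegrallyClosed

/-!
# A multiplicative polynomial function on a ring containing the integers of a number field

`E` a ring, `D : E → ℚ` multiplicative, polynomial on finite families and `D n = n ^ d` for integers `n`; `O` an order of the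
number field `L`, `i : O → E` a ring homomorphism. Then `[L : ℚ] ≤ d`, and `D (i b) = N_{L/ℚ} b` if `[L : ℚ] = d`.
-/

set_option autoImplicit false

open Polynomial

namespace K324.NormDeg

variable {E : Type*} [Ring E] (D : E → ℚ)
variable (hmul : ∀ x y : E, D (x * y) = D x * D y) (d : ℕ) (hint : ∀ n : ℤ, D (n : E) = (n : ℚ) ^ d)
  (hpoly : ∀ (m : ℕ) (f : Fin m → E), ∃ G : MvPolynomial (Fin m) ℚ, ∀ a : Fin m → ℤ,
    D (∑ i, a i • f i) = MvPolynomial.eval (fun i => (a i : ℚ)) G)

include hpoly in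
theorem exists_poly (φ : E) : ∃ P : ℚ[X], ∀ n : ℤ, D (φ - (n : E)) = P.eval (n : ℚ) := by
  obtain ⟨G, hG⟩ := hpoly 2 ![φ, 1]
  refine ⟨MvPolynomial.aeval ![(1 : ℚ[X]), -X] G, fun n => ?_⟩
  have h1 := hG ![1, -n]
  have h2 : ∑ i, (![1, -n] : Fin 2 → ℤ) i • (![φ, 1] : Fin 2 → E) i = φ - (n : E) := by
    rw [Fin.sum_univ_two]
    simp [sub_eq_add_neg]
  rw [h2] at h1
  rw [h1, ← Polynomial.coe_aeval_eq_eval, MvPolynomial.comp_aeval_apply, ← MvPolynomial.coe_aeval_eq_eval]
  change MvPolynomial.aeval _ G = MvPolynomial.aeval _ G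
  congr 2
  funext i
  fin_cases i
  · simp
  · simp

/-- roots of a monic polynomial over an algebraically closed field as a family -/
theorem exists_family {K : Type*} [Field K] [IsAlgClosed K] (P : K[X]) (hP : P.Monic) (d : ℕ) (hd : P.natDegree = d) :
    ∃ ω : Fin d → K, P = ∏ i, (X - C (ω i)) := by
  have hs : P.Splits := IsAlgClosed.splits P
  have hc : Multiset.card P.roots = d := by rw [← hs.natDegree_eq_card_roots, hd]
  have h1 : P.roots.toList.length = d := by rw [Multiset.length_toList, hc]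
  refine ⟨fun i => P.roots.toList.get (i.cast h1.symm), ?_⟩
  have h2 : P = (P.roots.map fun a => X - C a).prod := by
    conv_lhs => rw [hs.eq_prod_roots]
    rw [hP.leadingCoeff, C_1, one_mul]
  have h3 : ∏ i : Fin d, (X - C (P.roots.toList.get (i.cast h1.symm))) =
      ∏ i : Fin P.roots.toList.length, (X - C (P.roots.toList.get i)) := by
    refine Fintype.prod_equiv (finCongr h1.symm) _ _ fun i => ?_
    rfl
  rw [h3]
  conv_lhs => rw [h2]
  conv_lhs => rw [← Multiset.coe_toList P.roots]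
  rw [Multiset.map_coe, Multiset.prod_coe]
  rw [← List.prod_ofFn]
  congr 1
  rw [← List.ofFn_get (P.roots.toList.map fun a => X - C a)]
  apply List.ext_get
  · simp
  · intro n h1 h2
    simp

section

variable (L : Type*) [Field L] [NumberField L] {O : Type*} [CommRing O] [Algebra O L]
  [IsFractionRing O L] [Algebra.IsIntegral ℤ O] (i : O →+* E)

variable (O) in
/-- there is a primitive element of `L` in `O` -/
theorem exists_primitive : ∃ θ : O, Algebra.adjoin ℚ {algebraMap O L θ} = ⊤ := by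
  have : IsDomain O := (IsFractionRing.injective O L).isDomain _
  have hc : CharZero O := by
    refine ⟨fun a b h => ?_⟩
    have := congrArg (algebraMap O L) h
    simpa using this
  obtain ⟨α, hα⟩ := Field.exists_primitive_element ℚ L
  obtain ⟨⟨x, s⟩, hx⟩ := IsLocalization.surj (nonZeroDivisors O) α
  dsimp only at hx
  have hs0 : (s : O) ≠ 0 := nonZeroDivisors.ne_zero s.2
  have : Algebra.IsAlgebraic ℤ O := inferInstance
  obtain ⟨r, hr, t, ht⟩ := (Algebra.IsAlgebraic.isAlgebraic (R := ℤ) (s : O)).exists_nonzero_dvd s.2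
  refine ⟨x * t, ?_⟩
  have h1 : algebraMap O L (x * t) = (r : ℚ) • α := by
    have h2 : (algebraMap ℤ O r : O) = (s : O) * t := ht
    have h3 : ((r : ℤ) : L) = algebraMap O L s * algebraMap O L t := by
      rw [← map_mul, ← h2]; simp
    rw [map_mul, ← hx, Algebra.smul_def]
    have h4 : algebraMap ℚ L (r : ℚ) = ((r : ℤ) : L) := by simp
    rw [h4, h3]
    ring
  have hr0 : (r : ℚ) ≠ 0 := by exact_mod_cast hr
  rw [h1]
  have hα' : Algebra.adjoin ℚ {α} = ⊤ := by
    have h5 := IntermediateField.adjoin_simple_toSubalgebra_of_isAlgebraic (F := ℚ) (Algebra.IsAlgebraic.isAlgebraic α)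
    rw [hα, IntermediateField.top_toSubalgebra] at h5
    exact h5.symm
  rw [eq_top_iff, ← hα', Algebra.adjoin_le_iff, Set.singleton_subset_iff]
  have h6 : (r : ℚ)⁻¹ • ((r : ℚ) • α) ∈ Algebra.adjoin ℚ {(r : ℚ) • α} :=
    Subalgebra.smul_mem _ (Algebra.self_mem_adjoin_singleton ℚ ((r : ℚ) • α : L)) _
  rw [smul_smul, inv_mul_cancel₀ hr0, one_smul] at h6
  exact h6

theorem natDegree_minpoly (θ : L) (hθ : Algebra.adjoin ℚ {θ} = ⊤) : (minpoly ℚ θ).natDegree = Module.finrank ℚ L := by
  rw [PowerBasis.finrank (PowerBasis.ofAdjoinEqTop (Algebra.IsIntegral.isIntegral θ) hθ)]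
  simp

include hmul hint hpoly in
theorem key (hd : Even d) (hd0 : d ≠ 0) (θ : O) :
    ∃ P : ℚ[X], (∀ n : ℤ, D (i θ - (n : E)) = P.eval (n : ℚ)) ∧ P.Monic ∧ P.natDegree = d ∧
      minpoly ℚ (algebraMap O L θ) ∣ P := by
  obtain ⟨P, hP⟩ := exists_poly D hpoly (i θ)
  obtain ⟨hPm, hPd⟩ := K519.CharAlg.monic_natDegree D hmul d hint hpoly hd (i θ) P hP
  refine ⟨P, hP, hPm, hPd, ?_⟩
  obtain ⟨ω, hω⟩ := exists_family (P.map (algebraMap ℚ ℂ)) (hPm.map _) d (by rw [natDegree_map]; exact hPd)
  set F := minpoly ℤ (algebraMap O L θ) with hF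
  have hint' : IsIntegral ℤ (algebraMap O L θ) :=
    (Algebra.IsIntegral.isIntegral (R := ℤ) θ).map (algebraMap O L).toIntAlgHom
  have h0 : aeval θ F = 0 := by
    apply IsFractionRing.injective O L
    rw [map_zero]
    have := minpoly.aeval ℤ (algebraMap O L θ)
    rw [← hF] at this
    rw [← this]
    have h := Polynomial.hom_eval₂ F (algebraMap ℤ O) (algebraMap O L) θ
    rw [aeval_def, h, aeval_def]
    congr 1
    exact Subsingleton.elim _ _
  have h1 := K519.DegAlg.eq_prod D hmul d hint hpoly hd (i θ) P hP ω hω F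
  have h2 : aeval (i θ) F = 0 := by
    have h := Polynomial.hom_eval₂ F (algebraMap ℤ O) i θ
    rw [← aeval_def, h0, map_zero] at h
    rw [aeval_def, h]
    congr 1
    exact Subsingleton.elim _ _
  have h3 : D 0 = 0 := by
    have := hint 0
    rw [Int.cast_zero, Int.cast_zero, zero_pow hd0] at this
    exact this
  rw [h2, h3, Rat.cast_zero] at h1
  obtain ⟨j, -, hj⟩ := Finset.prod_eq_zero_iff.mp h1.symm
  have h4 : minpoly ℚ (algebraMap O L θ) = F.map (algebraMap ℤ ℚ) :=
    minpoly.isIntegrallyClosed_eq_field_fractions' ℚ hint'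
  have h5 : aeval (ω j) (minpoly ℚ (algebraMap O L θ)) = 0 := by
    rw [h4, aeval_map_algebraMap]; exact hj
  have h6 : minpoly ℚ (algebraMap O L θ) = minpoly ℚ (ω j) :=
    minpoly.eq_of_irreducible_of_monic (minpoly.irreducible (Algebra.IsIntegral.isIntegral _)) h5
      (minpoly.monic (Algebra.IsIntegral.isIntegral _))
  rw [h6]
  apply minpoly.dvd
  have h7 : (P.map (algebraMap ℚ ℂ)).eval (ω j) = 0 := by
    rw [hω, eval_prod]
    exact Finset.prod_eq_zero (Finset.mem_univ j) (by simp)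
  rwa [eval_map_algebraMap] at h7

include hmul hint hpoly i in
/-- `[L : ℚ] ≤ d`. -/
theorem finrank_le (hd : Even d) (hd0 : d ≠ 0) : Module.finrank ℚ L ≤ d := by
  obtain ⟨θ, hθ⟩ := exists_primitive L O
  obtain ⟨P, -, hPm, hPd, hdvd⟩ := key D hmul d hint hpoly L i hd hd0 θ
  rw [← natDegree_minpoly L _ hθ, ← hPd]
  exact natDegree_le_of_dvd hdvd hPm.ne_zero

theorem norm_aeval {θ : L} (hθ : Algebra.adjoin ℚ {θ} = ⊤) {d : ℕ} (ω : Fin d → ℂ)
    (hω : (minpoly ℚ θ).map (algebraMap ℚ ℂ) = ∏ i, (X - C (ω i))) (G : ℤ[X]) :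
    ((Algebra.norm ℚ (aeval θ G) : ℚ) : ℂ) = ∏ i, aeval (ω i) G := by
  classical
  set pb := PowerBasis.ofAdjoinEqTop (Algebra.IsIntegral.isIntegral θ) hθ with hpb
  have hgen : pb.gen = θ := by simp [hpb]
  have h1 := K519.CharAlg.det_aeval ((Algebra.leftMulMatrix pb.basis θ).map (algebraMap ℚ ℂ)) (G.map (algebraMap ℤ ℂ))
  have h2 : ((Algebra.leftMulMatrix pb.basis θ).map (algebraMap ℚ ℂ)).charpoly = ∏ i, (X - C (ω i)) := by
    have h3 := charpoly_leftMulMatrix pb
    rw [hgen] at h3
    rw [← hω, ← h3]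
    exact Matrix.charpoly_map _ _
  have h20 : (∏ i, (X - C (ω i))).roots = Multiset.map ω Finset.univ.val := by
    have := Polynomial.roots_multiset_prod_X_sub_C (Multiset.map ω Finset.univ.val)
    rwa [Multiset.map_map] at this
  rw [h2, h20] at h1
  have h4 : (aeval ((Algebra.leftMulMatrix pb.basis θ).map (algebraMap ℚ ℂ)) (G.map (algebraMap ℤ ℂ))).det =
      ((Algebra.norm ℚ (aeval θ G) : ℚ) : ℂ) := by
    rw [Algebra.norm_eq_matrix_det pb.basis]
    have h5 : Algebra.leftMulMatrix pb.basis (aeval θ G) = aeval (Algebra.leftMulMatrix pb.basis θ) G := by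
      have := Polynomial.aeval_algHom_apply ((Algebra.leftMulMatrix pb.basis).restrictScalars ℤ) θ G
      exact this.symm
    rw [h5]
    have h6 : ((aeval (Algebra.leftMulMatrix pb.basis θ) G).det : ℂ) =
        (algebraMap ℚ ℂ) ((aeval (Algebra.leftMulMatrix pb.basis θ) G).det) := rfl
    rw [h6, RingHom.map_det]
    congr 1
    rw [aeval_map_algebraMap]
    have := Polynomial.hom_eval₂ G (algebraMap ℤ (Matrix (Fin pb.dim) (Fin pb.dim) ℚ)) (algebraMap ℚ ℂ).mapMatrix
      (Algebra.leftMulMatrix pb.basis θ)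
    rw [← aeval_def] at this
    rw [this, aeval_def]
    congr 1
    exact Subsingleton.elim _ _
  rw [← h4, h1, Multiset.map_map]
  change ∏ i, _ = _
  refine Finset.prod_congr rfl fun i _ => ?_
  rw [Function.comp_apply, eval_map_algebraMap]

include hmul hint hpoly in
/-- **The degree is the norm** if `[L : ℚ] = d`. -/
theorem norm_eq (hd : Even d) (hL : Module.finrank ℚ L = d) (b : O) :
    D (i b) = Algebra.norm ℚ (algebraMap O L b) := by
  have hd0 : d ≠ 0 := hL ▸ Module.finrank_pos.ne'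
  obtain ⟨θ, hθ⟩ := exists_primitive L O
  obtain ⟨P, hP, hPm, hPd, hdvd⟩ := key D hmul d hint hpoly L i hd hd0 θ
  have hPeq : P = minpoly ℚ (algebraMap O L θ) :=
    Polynomial.eq_of_monic_of_dvd_of_natDegree_le (minpoly.monic (Algebra.IsIntegral.isIntegral _)) hPm hdvd
      (by rw [hPd, natDegree_minpoly L _ hθ, hL])
  obtain ⟨ω, hω⟩ := exists_family (P.map (algebraMap ℚ ℂ)) (hPm.map _) d (by rw [natDegree_map]; exact hPd)
  -- `b` times an integer is an integer polynomial in `θ`
  obtain ⟨n, hn, G, hG⟩ : ∃ n : ℤ, n ≠ 0 ∧ ∃ G : ℤ[X], aeval θ G = n • b := by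
    have hb : algebraMap O L b ∈ Algebra.adjoin ℚ {algebraMap O L θ} := by rw [hθ]; trivial
    obtain ⟨Q, hQ⟩ := (Algebra.adjoin_singleton_eq_range_aeval ℚ (algebraMap O L θ)).le hb
    obtain ⟨n, hn, hn2⟩ := IsLocalization.integerNormalization_spec (nonZeroDivisors ℤ) Q
    refine ⟨n, nonZeroDivisors.ne_zero hn, IsLocalization.integerNormalization (nonZeroDivisors ℤ) Q, ?_⟩
    apply IsFractionRing.injective O L
    have h1 : algebraMap O L (aeval θ (IsLocalization.integerNormalization (nonZeroDivisors ℤ) Q)) =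
        aeval (algebraMap O L θ) (IsLocalization.integerNormalization (nonZeroDivisors ℤ) Q) := by
      have := Polynomial.hom_eval₂ (IsLocalization.integerNormalization (nonZeroDivisors ℤ) Q) (algebraMap ℤ O)
        (algebraMap O L) θ
      rw [← aeval_def] at this
      rw [this, aeval_def]
      congr 1
      exact Subsingleton.elim _ _
    rw [h1, ← aeval_map_algebraMap ℚ, hn2, map_zsmul, map_zsmul]
    congr 1
  have h1 := K519.DegAlg.eq_prod D hmul d hint hpoly hd (i θ) P hP ω hω G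
  have h2 := norm_aeval L hθ ω (by rw [← hPeq]; exact hω) G
  have h3 : aeval (i θ) G = i (n • b) := by
    have := Polynomial.hom_eval₂ G (algebraMap ℤ O) i θ
    rw [← aeval_def, hG] at this
    rw [this, aeval_def]
    congr 1
    exact Subsingleton.elim _ _
  have h4 : aeval (algebraMap O L θ) G = n • algebraMap O L b := by
    rw [← map_zsmul, ← hG]
    have := Polynomial.hom_eval₂ G (algebraMap ℤ O) (algebraMap O L) θ
    rw [← aeval_def] at this
    rw [this, aeval_def]
    congr 1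
    exact Subsingleton.elim _ _
  rw [← h2, h3, h4] at h1
  have h5 : D (i (n • b)) = Algebra.norm ℚ (n • algebraMap O L b) := by exact_mod_cast h1
  rw [map_zsmul, zsmul_eq_mul, hmul, hint, zsmul_eq_mul, map_mul] at h5
  have h6 : Algebra.norm ℚ ((n : ℤ) : L) = (n : ℚ) ^ d := by
    have := Algebra.norm_algebraMap (S := L) (n : ℚ)
    rw [hL] at this
    rw [← this]
    simp
  rw [h6] at h5
  exact mul_left_cancel₀ (pow_ne_zero _ (by exact_mod_cast hn)) h5

end

end K324.NormDeg
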