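import Groth.Agent.AbVar.K511.HT.Iface
import Groth.Agent.AbVar.K525.Conv
import Groth.Agent.AbVar.K525.AVC
import Groth.Agent.AbVar.K525.WeilRH
import Groth.Agent.AbVar.K519.PolyA
import Groth.Agent.AbVar.K324.NormDeg
import Groth.Agent.AbSch.K448.FibreBC
import Groth.Agent.Sga3B.DimFib

/-!
# The degree of endomorphisms of an abelian variety over any field; degree and norm

`D A f` is the degree of `f` over the algebraic closure (`0` if it is not finite).  If `[L : ℚ] = 2 dim A` and
`ρ : 𝓞 L → End A` then `ρ b` is finite and flat of rank `|N b|` for `b ≠ 0`.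
-/

set_option autoImplicit false
universe u
open CategoryTheory CategoryTheory.Limits MonoidalCategory CartesianMonoidalCategory MonObj GrpObj AlgebraicGeometry
open scoped NumberField

noncomputable section

namespace K324.DegK

open K511.HT

variable {k : Type u} [Field k] (A : Over (Spc k)) [GrpObj A] [IsCommMonObj A] [IsProper A.hom] [GeometricallyIntegral A.hom]

/-- `Spec` of the algebraic closure. -/
abbrev sb (k : Type u) [Field k] : Spc (AlgebraicClosure k) ⟶ Spc k := spm (algebraMap k (AlgebraicClosure k))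

instance proper_bc {K : Type u} [Field K] (s : Spc K ⟶ Spc k) : IsProper (Red.bc s A).hom :=
  inferInstanceAs (IsProper (pullback.snd A.hom s))

instance gi_bc {K : Type u} [Field K] (s : Spc K ⟶ Spc k) : GeometricallyIntegral (Red.bc s A).hom :=
  inferInstanceAs (GeometricallyIntegral (pullback.snd A.hom s))

omit [GrpObj A] [IsCommMonObj A] [GeometricallyIntegral A.hom] in
theorem dim_bc {K : Type u} [Field K] (s : Spc K ⟶ Spc k) :
    topologicalKrullDim (Red.bc s A).left = topologicalKrullDim A.left :=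
  Groth.Agent.Sga3B.DimFib.topologicalKrullDim_baseChange_eq (Field.toIsField k) (Field.toIsField K) A.hom s
    (pullback.fst A.hom s) (pullback.snd A.hom s) (IsPullback.of_hasPullback _ _)

/-- The degree. -/
def D (f : EndAV.End A) : ℚ := K519.Charpoly.D (bcEnd (sb k) A f)

variable {g : ℕ} (hg : topologicalKrullDim A.left = g)

include hg in
theorem D_mul (f h : EndAV.End A) : D A (f * h) = D A f * D A h := by
  unfold D
  rw [map_mul]
  exact K519.Charpoly.D_mul g ((dim_bc A (sb k)).trans hg) _ _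

include hg in
theorem D_intCast (n : ℤ) : D A ((n : ℤ) : EndAV.End A) = (n : ℚ) ^ (2 * g) := by
  unfold D
  rw [map_intCast]
  exact K519.Charpoly.D_intCast g ((dim_bc A (sb k)).trans hg) n

theorem D_poly (m : ℕ) (f : Fin m → EndAV.End A) : ∃ G : MvPolynomial (Fin m) ℚ, ∀ a : Fin m → ℤ,
    D A (∑ i, a i • f i) = MvPolynomial.eval (fun i => (a i : ℚ)) G := by
  obtain ⟨G, hG⟩ := K519.PolyA.poly (A := Red.bc (sb k) A) m (fun i => bcEnd (sb k) A (f i))
  refine ⟨G, fun a => ?_⟩
  rw [← hG a]
  unfold D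
  rw [map_sum]
  congr 2
  funext i
  exact map_zsmul _ _ _

/-- `[L : ℚ] ≤ 2 dim A` for a number field acting on `A`. -/
theorem finrank_le (L : Type*) [Field L] [NumberField L] {O : Type*} [CommRing O] [Algebra O L]
    [IsFractionRing O L] [Algebra.IsIntegral ℤ O] (i : O →+* EndAV.End A) (hg0 : g ≠ 0)
    (hg : topologicalKrullDim A.left = g) : Module.finrank ℚ L ≤ 2 * g :=
  K324.NormDeg.finrank_le (D A) (D_mul A hg) (2 * g) (D_intCast A hg) (D_poly A) L i (even_two_mul g) (by omega)

/-- `D (ρ b) = N b` if `[L : ℚ] = 2 dim A`. -/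
theorem D_eq_norm (L : Type*) [Field L] [NumberField L] {O : Type*} [CommRing O] [Algebra O L]
    [IsFractionRing O L] [Algebra.IsIntegral ℤ O] (i : O →+* EndAV.End A)
    (hg : topologicalKrullDim A.left = g) (hL : Module.finrank ℚ L = 2 * g) (b : O) :
    D A (i b) = Algebra.norm ℚ (algebraMap O L b) :=
  K324.NormDeg.norm_eq (D A) (D_mul A hg) (2 * g) (D_intCast A hg) (D_poly A) L i (even_two_mul g) hL b

omit [IsProper A.hom] [GeometricallyIntegral A.hom] in
/-- The rank of a finite flat endomorphism is its degree. -/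
theorem finrank_eq (hg : topologicalKrullDim A.left = g) [IsProper A.hom] [GeometricallyIntegral A.hom] (f : EndAV.End A) [IsFinite f.toHom.left]
    [Flat f.toHom.left] (y : A.left) : (Scheme.Hom.finrank f.toHom.left y : ℚ) = D A f := by
  have hpb := K448.FibreBC.isPullback_map_left (sb k) f.toHom
  have hfin : IsFinite ((Over.pullback (sb k)).map f.toHom).left :=
    MorphismProperty.of_isPullback hpb ‹_›
  obtain ⟨z, hz⟩ : ∃ z : (Red.bc (sb k) A).left, pullback.fst A.hom (sb k) z = y := by
    have : Surjective (pullback.fst A.hom (sb k)) := inferInstance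
    exact (pullback.fst A.hom (sb k)).surjective y
  have h1 := Scheme.Hom.finrank_of_isPullback _ _ _ _ hpb z
  have h2 : IsFinite (bcEnd (sb k) A f).toHom.left := hfin
  have h3 := K519.Nu.finrank_eq_nu g ((dim_bc A (sb k)).trans hg) ((dim_bc A (sb k)).trans hg) (bcEnd (sb k) A f).toHom z
  rw [← hz]
  unfold D K519.Charpoly.D
  rw [← h3]
  exact_mod_cast h1.symm

/-- If `f h = h f` is a nonzero integer then `f` is finite and flat. -/
theorem finite_flat (f h : EndAV.End A) (n : ℕ) (hn : n ≠ 0) (h1 : f * h = (n : EndAV.End A))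
    (h2 : h * f = (n : EndAV.End A)) : IsFinite f.toHom.left ∧ Flat f.toHom.left := by
  obtain ⟨g, hg⟩ := K525.AVC.exists_dim (K525.AVC.mk A)
  have hA : K525.AVC.IsAV (K525.AVC.mk A) := K525.AVC.isAV_mk A
  obtain ⟨s1, s2, -⟩ := K525.AVC.smul_props hA hg hn
  have e0 : K525.AlgC.und (n • 𝟙 (K525.AVC.mk A)) = EndAV.End.toHom (n : EndAV.End A) := by
    rw [K525.AVC.und_smul_id, EndAV.End.toHom_natCast]
    rfl
  rw [e0] at s1
  constructor
  · rw [← h2] at s1
    have s3 : IsFinite (f.toHom.left ≫ h.toHom.left) := s1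
    have s4 : IsSeparated h.toHom.left := by
      have : IsSeparated (h.toHom.left ≫ A.hom) := by rw [Over.w]; infer_instance
      exact IsSeparated.of_comp h.toHom.left A.hom
    exact IsFinite.of_comp f.toHom.left h.toHom.left
  · let u := (K525.Conv.endE A).symm f
    let v := (K525.Conv.endE A).symm h
    have h3 : v ≫ u = n • 𝟙 (K525.AVC.mk A) := by
      have : u * v = (n : End (K525.AVC.mk A)) := by
        rw [← map_mul, h1, map_natCast]
      have h5 : (n : End (K525.AVC.mk A)) = n • 𝟙 (K525.AVC.mk A) := by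
        rw [← nsmul_one]; rfl
      exact this.trans h5
    have h4 : Epi (v ≫ u) := by rw [h3]; exact K525.AVC.epi_smul hA hn
    have h5 : Epi u := epi_of_epi v u
    obtain ⟨w1, w2, w3⟩ := K525.AlgC.W_of_epi u
    exact w1

/-- Nonzero elements of `𝓞 L` act by finite flat morphisms. -/
theorem finite_flat_of_ne_zero (L : Type) [Field L] [NumberField L] (ρ : 𝓞 L →+* EndAV.End A) (b : 𝓞 L) (hb : b ≠ 0) :
    IsFinite (ρ b).toHom.left ∧ Flat (ρ b).toHom.left := by
  have h1 : (Ideal.absNorm (Ideal.span {b}) : 𝓞 L) ∈ Ideal.span {b} := Ideal.absNorm_mem _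
  obtain ⟨y, hy⟩ := Ideal.mem_span_singleton'.1 h1
  have h2 : Ideal.absNorm (Ideal.span {b}) ≠ 0 := by
    rw [Ne, Ideal.absNorm_eq_zero_iff, Ideal.span_singleton_eq_bot]
    exact hb
  refine finite_flat A (ρ b) (ρ y) _ h2 ?_ ?_
  · rw [← map_mul, mul_comm, hy, map_natCast]
  · rw [← map_mul, hy, map_natCast]

/-- **Degree and norm.** -/
theorem finrank_eq_norm (L : Type) [Field L] [NumberField L] (hg : topologicalKrullDim A.left = g)
    (hL : Module.finrank ℚ L = 2 * g) (ρ : 𝓞 L →+* EndAV.End A) (b : 𝓞 L) (hb : b ≠ 0) (y : A.left) :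
    Scheme.Hom.finrank (ρ b).toHom.left y = Ideal.absNorm (Ideal.span {b}) := by
  obtain ⟨h1, h2⟩ := finite_flat_of_ne_zero A L ρ b hb
  have h3 := finrank_eq A hg (ρ b) y
  rw [D_eq_norm A L ρ hg hL b] at h3
  have h4 : (Algebra.norm ℚ (algebraMap (𝓞 L) L b) : ℚ) = (Algebra.norm ℤ b : ℤ) := by
    exact (Algebra.coe_norm_int b).symm
  rw [h4] at h3
  have h5 : ((Scheme.Hom.finrank (ρ b).toHom.left y : ℕ) : ℤ) = Algebra.norm ℤ b := by exact_mod_cast h3
  rw [Ideal.absNorm_span_singleton, ← h5]
  simp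

end K324.DegK
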