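import Groth.Agent.S2498
import Groth.Agent.Lefpen.H715.Frob

/-!
# Lengths of fibres of local homomorphisms

`K324.LocLen.ell β` is the length of the fibre `S / m_R S` of a ring homomorphism `β : R → S` of local rings.
It is multiplicative for flat local homomorphisms; it is at most `Q ^ d` if the fibre ring has a maximal ideal generated by
`d` elements all whose elements are killed by the `Q`-th power map; for the iterates of Frobenius of a regular local ring of
dimension `g` it is at least `Q ^ g`.
-/

set_option autoImplicit false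
universe u

namespace K324.LocLen

open IsLocalRing Ideal Groth.Agent.Localalg.Lech TensorProduct

/-- The length of the fibre of `β : R → S` over the closed point. -/
noncomputable def ell {R S : Type u} [CommRing R] [IsLocalRing R] [CommRing S] (β : R →+* S) : ℕ∞ :=
  len ((maximalIdeal R).map β)

theorem len_anti {R : Type u} [CommRing R] {I J : Ideal R} (h : I ≤ J) : len J ≤ len I :=
  Module.length_le_of_surjective (Submodule.factor h) (Submodule.factor_surjective h)

theorem len_maximalIdeal {R : Type u} [CommRing R] [IsLocalRing R] : len (maximalIdeal R) = 1 :=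
  Module.length_eq_one_iff.mpr (isSimpleModule_iff_isCoatom.mpr (maximalIdeal.isMaximal R).out)

theorem len_top {R : Type u} [CommRing R] : len (⊤ : Ideal R) = 0 := by
  have : Subsingleton (R ⧸ (⊤ : Ideal R)) := Ideal.Quotient.subsingleton_iff.mpr rfl
  exact Module.length_eq_zero

/-- a family of `n`-th powers and a further ideal. -/
theorem len_pow_sup_le {R : Type u} [CommRing R] {ι : Type*} [DecidableEq ι] (x : ι → R) (n : ℕ) (s : Finset ι) :
    ∀ K : Ideal R, len (span ((fun i => x i ^ n) '' s) ⊔ K) ≤ (n ^ s.card : ℕ) * len (span (x '' s) ⊔ K) := by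
  induction s using Finset.induction_on with
  | empty => intro K; simp
  | insert i s his ih =>
    intro K
    have e1 : span ((fun i => x i ^ n) '' (insert i s : Finset ι)) ⊔ K =
        span {x i ^ n} ⊔ (span ((fun i => x i ^ n) '' s) ⊔ K) := by
      rw [Finset.coe_insert, Set.image_insert_eq, Ideal.span_insert, sup_assoc]
    have e2 : span (x '' (insert i s : Finset ι)) ⊔ K = span (x '' s) ⊔ (span {x i} ⊔ K) := by
      rw [Finset.coe_insert, Set.image_insert_eq, Ideal.span_insert, sup_comm (span {x i}), sup_assoc]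
    have e3 : span {x i} ⊔ (span ((fun i => x i ^ n) '' s) ⊔ K) =
        span ((fun i => x i ^ n) '' s) ⊔ (span {x i} ⊔ K) := by
      rw [← sup_assoc, sup_comm (span {x i}), sup_assoc]
    rw [e1, e2]
    refine (length_pow_le _ (x i) n).trans ?_
    rw [e3]
    refine (mul_le_mul_right (ih (span {x i} ⊔ K)) _).trans ?_
    rw [← mul_assoc, Finset.card_insert_of_notMem his, pow_succ']
    push_cast
    exact le_rfl

/-- If `m_S = (y_1, …, y_d) + I` and the `Q`-th powers of the `y_i` are in `I` then `S / I` has length at most `Q ^ d`. -/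
theorem len_le_pow {S : Type u} [CommRing S] [IsLocalRing S] (I : Ideal S) {d : ℕ} (y : Fin d → S)
    (hy : maximalIdeal S ≤ span (Set.range y) ⊔ I) (Q : ℕ) (hQ : ∀ i, y i ^ Q ∈ I) : len I ≤ (Q ^ d : ℕ) := by
  classical
  have h := len_pow_sup_le y Q Finset.univ I
  have e1 : span ((fun i => y i ^ Q) '' ((Finset.univ : Finset (Fin d)) : Set (Fin d))) ⊔ I = I := by
    rw [sup_eq_right, Ideal.span_le]
    rintro _ ⟨i, -, rfl⟩
    exact hQ i
  rw [e1, Finset.coe_univ, Set.image_univ, Finset.card_univ, Fintype.card_fin] at h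
  refine h.trans ?_
  have h1 : len (span (Set.range y) ⊔ I) ≤ 1 := by
    rw [← len_maximalIdeal (R := S)]
    exact len_anti hy
  calc ((Q ^ d : ℕ) : ℕ∞) * len (span (Set.range y) ⊔ I) ≤ ((Q ^ d : ℕ) : ℕ∞) * 1 := mul_le_mul_right h1 _
    _ = _ := mul_one _

/-- **Multiplicativity** of the length of the fibre for flat local homomorphisms. -/
theorem ell_comp {R S T : Type u} [CommRing R] [IsLocalRing R] [CommRing S] [IsLocalRing S] [CommRing T] [IsLocalRing T]
    (β : R →+* S) (γ : S →+* T) (hγ : γ.Flat) (hγl : IsLocalHom γ) (h : ell β ≠ ⊤) :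
    ell (γ.comp β) = ell β * ell γ := by
  algebraize [γ]
  have hloc : IsLocalHom (algebraMap S T) := hγl
  have h1 := Groth.Agent.S2498.length_eq_of_isFiniteLength (A := S) (B := T) T (S ⧸ (maximalIdeal R).map β)
    (Module.length_ne_top_iff.mp h)
  have h2 := (Groth.Agent.S2498.quotEquiv (A := S) (B := T) T ((maximalIdeal R).map β)).length_eq
  rw [← h2] at h1
  have e : ∀ I : Ideal S, (I.map (algebraMap S T) • (⊤ : Submodule T T)) = I.map γ := fun I => by
    rw [smul_eq_mul, Ideal.mul_top]; rfl
  rw [e, e, Ideal.map_map] at h1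
  exact h1

/-- Bound for the fibre in terms of the cotangent space. -/
theorem ell_le_pow {R S : Type u} [CommRing R] [IsLocalRing R] [CommRing S] [IsLocalRing S] [IsNoetherianRing S]
    (β : R →+* S) {d : ℕ} (y : Fin d → S)
    (hy : maximalIdeal S ≤ span (Set.range y) ⊔ (maximalIdeal R).map β ⊔ maximalIdeal S ^ 2)
    (Q : ℕ) (hQ : ∀ i, y i ^ Q ∈ (maximalIdeal R).map β) : ell β ≤ (Q ^ d : ℕ) := by
  refine len_le_pow _ y ?_ Q hQ
  have h := Submodule.le_of_le_smul_of_le_jacobson_bot (R := S) (M := S) (N := span (Set.range y) ⊔ (maximalIdeal R).map β)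
    (N' := maximalIdeal S) (I := maximalIdeal S) (IsNoetherian.noetherian _)
    (IsLocalRing.maximalIdeal_le_jacobson _) ?_
  · exact h
  · rw [smul_eq_mul, ← pow_two]
    exact hy

end K324.LocLen
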