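import Mathlib.NumberTheory.NumberField.ClassNumber
import Mathlib.NumberTheory.NumberField.Basic
import Mathlib.RingTheory.Ideal.Norm.AbsNorm
import Mathlib.RingTheory.Multiplicity
import Mathlib.Data.ENat.BigOperators

/-!
# The class number argument
-/

set_option autoImplicit false

open scoped NumberField
open UniqueFactorizationMonoid

namespace K324.StNum

variable {L : Type} [Field L] [NumberField L]

/-- powers of ideals of exponent the class number are principal -/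
theorem exists_gen (I : Ideal (𝓞 L)) (hI : I ≠ ⊥) : ∃ b : 𝓞 L, Ideal.span {b} = I ^ NumberField.classNumber L := by
  have h0 : I ∈ nonZeroDivisors (Ideal (𝓞 L)) := mem_nonZeroDivisors_of_ne_zero hI
  have h1 : ClassGroup.mk0 (⟨I, h0⟩ ^ NumberField.classNumber L) = 1 := by
    rw [map_pow]
    exact pow_card_eq_one
  rw [ClassGroup.mk0_eq_one_iff] at h1
  obtain ⟨b, hb⟩ := h1.principal
  exact ⟨b, hb.symm⟩

/-- The factorization of a principal ideal over a finite set containing all its prime factors. -/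
theorem prod_pow_ord (S : Finset (Ideal (𝓞 L))) (hS : ∀ 𝔭 ∈ S, 𝔭.IsMaximal ∧ 𝔭 ≠ ⊥) (x : 𝓞 L) (hx : x ≠ 0)
    (hx' : ∀ 𝔭 : Ideal (𝓞 L), 𝔭.IsMaximal → x ∈ 𝔭 → 𝔭 ∈ S) :
    ∏ 𝔭 ∈ S, 𝔭 ^ multiplicity 𝔭 (Ideal.span {x}) = Ideal.span {x} := by
  classical
  have h0 : Ideal.span {x} ≠ 0 := by
    rw [Ne, Ideal.zero_eq_bot, Ideal.span_singleton_eq_bot]
    exact hx
  have h1 : ∀ 𝔭 ∈ S, multiplicity 𝔭 (Ideal.span {x}) = (normalizedFactors (Ideal.span {x})).count 𝔭 := by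
    intro 𝔭 h𝔭
    obtain ⟨h2, h3⟩ := hS 𝔭 h𝔭
    have h4 : Irreducible 𝔭 := (Ideal.prime_of_isPrime h3 h2.isPrime).irreducible
    have h5 := emultiplicity_eq_count_normalizedFactors h4 h0
    rw [normalize_eq] at h5
    exact multiplicity_eq_of_emultiplicity_eq_some h5
  have h2 : (normalizedFactors (Ideal.span {x})).toFinset ⊆ S := by
    intro 𝔭 h𝔭
    rw [Multiset.mem_toFinset] at h𝔭
    have h3 := prime_of_normalized_factor _ h𝔭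
    have h4 := dvd_of_mem_normalizedFactors h𝔭
    have h5 : 𝔭.IsPrime := Ideal.isPrime_of_prime h3
    refine hx' 𝔭 (h5.isMaximal h3.ne_zero) ?_
    rw [Ideal.dvd_iff_le, Ideal.span_singleton_le_iff_mem] at h4
    exact h4
  rw [Finset.prod_congr rfl fun 𝔭 h𝔭 => by rw [h1 𝔭 h𝔭]]
  rw [← Finset.prod_subset h2 (fun 𝔭 _ h𝔭 => by
    rw [Multiset.mem_toFinset] at h𝔭
    rw [Multiset.count_eq_zero_of_notMem h𝔭, pow_zero])]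
  rw [← Finset.prod_multiset_count]
  exact Ideal.prod_normalizedFactors_eq_self h0

/-- equality in a product of inequalities -/
theorem eq_of_prod_le {ι : Type*} (S : Finset ι) (f k : ι → ℕ) (hf : ∀ i ∈ S, 0 < f i) (hle : ∀ i ∈ S, f i ≤ k i)
    (h : ∏ i ∈ S, k i ≤ ∏ i ∈ S, f i) : ∀ i ∈ S, f i = k i := by
  intro i hi
  by_contra hne
  exact absurd h (not_le.mpr (Finset.prod_lt_prod hf hle ⟨i, hi, lt_of_le_of_ne (hle i hi) hne⟩))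

/-- **The class number argument.** -/
theorem main (g q : ℕ) (hq : q ≠ 0) (π₀ : 𝓞 L) (hπ : π₀ ≠ 0) (hN : Ideal.absNorm (Ideal.span {π₀}) = q ^ g)
    (ell : 𝓞 L → ℕ∞) (hmul : ∀ b c, ell b ≠ ⊤ → c ≠ 0 → ell (b * c) = ell b * ell c)
    (hF : ∀ h : ℕ, (((q ^ h) ^ g : ℕ) : ℕ∞) ≤ ell (π₀ ^ h))
    (hle : ∀ b, b ≠ 0 → ell b ≠ ⊤ → ell b ≤ Ideal.absNorm (Ideal.span {b}))
    (cnt : 𝓞 L → ℕ) (hK : ∀ h b c, c * b = π₀ ^ h → ell b ≤ (((q ^ h) ^ cnt b : ℕ) : ℕ∞))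
    (d : Ideal (𝓞 L) → ℕ) (S : Finset (Ideal (𝓞 L))) (hS : ∀ 𝔭 ∈ S, 𝔭.IsMaximal ∧ 𝔭 ≠ ⊥)
    (hS' : ∀ 𝔭 : Ideal (𝓞 L), 𝔭.IsMaximal → π₀ ∈ 𝔭 → 𝔭 ∈ S)
    (hd : ∀ 𝔭 ∈ S, ∀ n : ℕ, n ≠ 0 → ∀ b, Ideal.span {b} = 𝔭 ^ n → cnt b ≤ d 𝔭)
    (hsum : ∑ 𝔭 ∈ S, d 𝔭 ≤ g) :
    ∀ 𝔭 ∈ S, Nat.card (𝓞 L ⧸ 𝔭) ^ multiplicity 𝔭 (Ideal.span {π₀}) = q ^ d 𝔭 := by
  classical
  have hfac := prod_pow_ord S hS π₀ hπ hS'
  set v : Ideal (𝓞 L) → ℕ := fun 𝔭 => multiplicity 𝔭 (Ideal.span {π₀}) with hv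
  set h := NumberField.classNumber L with hh
  have hh0 : h ≠ 0 := Fintype.card_ne_zero
  -- generators
  have hgen : ∀ 𝔭 : Ideal (𝓞 L), ∃ c : 𝓞 L, 𝔭 ∈ S → Ideal.span {c} = 𝔭 ^ (h * v 𝔭) := by
    intro 𝔭
    by_cases hp : 𝔭 ∈ S
    · obtain ⟨b, hb⟩ := exists_gen 𝔭 (hS 𝔭 hp).2
      exact ⟨b ^ v 𝔭, fun _ => by rw [← Ideal.span_singleton_pow, hb, pow_mul]⟩
    · exact ⟨0, fun h => absurd h hp⟩
  choose c hc using hgen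
  have hprod : Ideal.span {∏ 𝔭 ∈ S, c 𝔭} = Ideal.span {π₀ ^ h} := by
    rw [← Ideal.prod_span_singleton, Finset.prod_congr rfl fun 𝔭 h𝔭 => hc 𝔭 h𝔭, ← Ideal.span_singleton_pow, ← hfac,
      ← Finset.prod_pow]
    exact Finset.prod_congr rfl fun 𝔭 _ => by rw [← pow_mul, mul_comm]
  obtain ⟨u, hu⟩ := Ideal.span_singleton_eq_span_singleton.mp hprod
  -- hu : (∏ c) * u = π₀ ^ h
  have hc0 : ∀ 𝔭 ∈ S, c 𝔭 ≠ 0 := by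
    intro 𝔭 h𝔭 h0
    have h1 := hc 𝔭 h𝔭
    rw [h0, Ideal.span_singleton_eq_bot.mpr rfl] at h1
    exact pow_ne_zero _ (hS 𝔭 h𝔭).2 h1.symm
  have hdvd : ∀ 𝔭 ∈ S, ∃ c', c' * c 𝔭 = π₀ ^ h := by
    intro 𝔭 h𝔭
    obtain ⟨c', hc'⟩ := Finset.dvd_prod_of_mem c h𝔭
    exact ⟨c' * u, by rw [← hu, hc']; ring⟩
  have hunit : ∀ w : 𝓞 L, IsUnit w → ell w ≤ 1 := by
    intro w hw
    obtain ⟨w', hw'⟩ := hw.exists_left_inv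
    have := hK 0 w w' (by rw [hw', pow_zero])
    rwa [pow_zero, one_pow, Nat.cast_one] at this
  have hfin : ∀ 𝔭 ∈ S, ell (c 𝔭) ≠ ⊤ := by
    intro 𝔭 h𝔭
    obtain ⟨c', hc'⟩ := hdvd 𝔭 h𝔭
    exact ne_top_of_le_ne_top (ENat.natCast_ne_top _) (hK h (c 𝔭) c' hc')
  have hE : ∀ 𝔭, ∃ E : ℕ, 𝔭 ∈ S → ell (c 𝔭) = E := by
    intro 𝔭
    by_cases hp : 𝔭 ∈ S
    · exact ⟨(ell (c 𝔭)).toNat, fun _ => (ENat.natCast_toNat (hfin 𝔭 hp)).symm⟩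
    · exact ⟨0, fun h => absurd h hp⟩
  choose E hE using hE
  have hell : ∀ T : Finset (Ideal (𝓞 L)), T ⊆ S → ell (u * ∏ 𝔭 ∈ T, c 𝔭) ≤ ((∏ 𝔭 ∈ T, E 𝔭 : ℕ) : ℕ∞) := by
    intro T
    induction T using Finset.induction_on with
    | empty =>
      intro _
      rw [Finset.prod_empty, Finset.prod_empty, mul_one, Nat.cast_one]
      exact hunit _ u.isUnit
    | insert 𝔭 T hT ih =>
      intro hTS
      rw [Finset.insert_subset_iff] at hTS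
      have h1 := ih hTS.2
      rw [Finset.prod_insert hT, Finset.prod_insert hT, mul_comm (c 𝔭), ← mul_assoc,
        hmul _ _ (ne_top_of_le_ne_top (ENat.natCast_ne_top _) h1) (hc0 𝔭 hTS.1), hE 𝔭 hTS.1, Nat.cast_mul,
        mul_comm ((E 𝔭 : ℕ) : ℕ∞)]
      exact mul_le_mul_left h1 _
  have h1 : (q ^ h) ^ g ≤ ∏ 𝔭 ∈ S, E 𝔭 := by
    have h2 := (hF h).trans ((le_of_eq (by rw [← hu, mul_comm])).trans (hell S subset_rfl))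
    exact_mod_cast h2
  have hqpos : 0 < (q ^ h) ^ g := Nat.pos_of_ne_zero (pow_ne_zero _ (pow_ne_zero _ hq))
  have hEpos : ∀ 𝔭 ∈ S, 0 < E 𝔭 := by
    intro 𝔭 h𝔭
    have h2 : ∏ 𝔭 ∈ S, E 𝔭 ≠ 0 := (hqpos.trans_le h1).ne'
    exact Nat.pos_of_ne_zero (Finset.prod_ne_zero_iff.mp h2 𝔭 h𝔭)
  have hEd : ∀ 𝔭 ∈ S, E 𝔭 ≤ (q ^ h) ^ d 𝔭 := by
    intro 𝔭 h𝔭
    have hpow : 0 < (q ^ h) := Nat.pos_of_ne_zero (pow_ne_zero _ hq)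
    by_cases hv0 : v 𝔭 = 0
    · have h2 := hc 𝔭 h𝔭
      rw [hv0, mul_zero, pow_zero, Ideal.one_eq_top, Ideal.span_singleton_eq_top] at h2
      have h3 := hunit _ h2
      rw [hE 𝔭 h𝔭] at h3
      have h4 : E 𝔭 ≤ 1 := by exact_mod_cast h3
      exact h4.trans (Nat.one_le_pow _ _ hpow)
    · obtain ⟨c', hc'⟩ := hdvd 𝔭 h𝔭
      have h2 := hK h (c 𝔭) c' hc'
      rw [hE 𝔭 h𝔭] at h2
      have h3 : E 𝔭 ≤ (q ^ h) ^ cnt (c 𝔭) := by exact_mod_cast h2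
      exact h3.trans (Nat.pow_le_pow_right hpow (hd 𝔭 h𝔭 _ (mul_ne_zero hh0 hv0) _ (hc 𝔭 h𝔭)))
  have hEN : ∀ 𝔭 ∈ S, E 𝔭 ≤ Nat.card (𝓞 L ⧸ 𝔭) ^ (h * v 𝔭) := by
    intro 𝔭 h𝔭
    have h2 := hle (c 𝔭) (hc0 𝔭 h𝔭) (hfin 𝔭 h𝔭)
    rw [hE 𝔭 h𝔭, hc 𝔭 h𝔭, map_pow] at h2
    have h3 : E 𝔭 ≤ Ideal.absNorm 𝔭 ^ (h * v 𝔭) := by exact_mod_cast h2
    exact h3
  have e1 := eq_of_prod_le S E _ hEpos hEd (by
    rw [Finset.prod_pow_eq_pow_sum]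
    exact (Nat.pow_le_pow_right (Nat.pos_of_ne_zero (pow_ne_zero _ hq)) hsum).trans h1)
  have e2 := eq_of_prod_le S E _ hEpos hEN (by
    refine le_trans (le_of_eq ?_) h1
    have h3 : ∏ 𝔭 ∈ S, Nat.card (𝓞 L ⧸ 𝔭) ^ (h * v 𝔭) = Ideal.absNorm (Ideal.span {∏ 𝔭 ∈ S, c 𝔭}) := by
      rw [← Ideal.prod_span_singleton, Finset.prod_congr rfl fun 𝔭 h𝔭 => hc 𝔭 h𝔭, map_prod]
      exact Finset.prod_congr rfl fun 𝔭 _ => by rw [map_pow]; rfl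
    rw [h3, hprod, ← Ideal.span_singleton_pow, map_pow, hN, ← pow_mul, ← pow_mul, mul_comm])
  intro 𝔭 h𝔭
  have h4 := (e2 𝔭 h𝔭).symm.trans (e1 𝔭 h𝔭)
  have h5 : (Nat.card (𝓞 L ⧸ 𝔭) ^ v 𝔭) ^ h = (q ^ d 𝔭) ^ h := by
    rw [← pow_mul, ← pow_mul, mul_comm (v 𝔭), mul_comm (d 𝔭), pow_mul q]
    exact h4
  exact Nat.pow_left_injective hh0 h5

end K324.StNum
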