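import Groth.Agent.AbVar.K324.StLie
import Groth.Agent.AbVar.K324.StNum
import Groth.Agent.AbVar.K530.HTFrob
import Groth.Agent.AbVar.K525.WeilRH
import Groth.Agent.AbSch.K449.Basic
import Groth.Agent.Red.K216.DimPt
import Groth.Agent.Flat2B.SmoothGeom
import Mathlib.Algebra.CharP.CharAndCard

/-!
# The Shimura–Taniyama formula: the node `ST` of Honda–Tate
-/

set_option autoImplicit false
universe u
open CategoryTheory CategoryTheory.Limits MonoidalCategory CartesianMonoidalCategory MonObj GrpObj AlgebraicGeometry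
open IsLocalRing UniqueFactorizationMonoid
open scoped NumberField

namespace K324.STMain

open K511.HT K525.HTStt K324.LocLen K324.StLen

/-- The norm of an algebraic integer all whose conjugates have absolute value `√q`. -/
theorem absNorm_eq {L : Type} [Field L] [NumberField L] (g q : ℕ) (hL : Module.finrank ℚ L = 2 * g) (π₀ : 𝓞 L)
    (h : ∀ σ : L →+* ℂ, ‖σ π₀‖ ^ 2 = q) : Ideal.absNorm (Ideal.span {π₀}) = q ^ g := by
  rw [Ideal.absNorm_span_singleton]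
  have h1 : (Algebra.norm ℚ (π₀ : L) : ℚ) = (Algebra.norm ℤ π₀ : ℤ) := (Algebra.coe_norm_int π₀).symm
  have h2 := Algebra.norm_eq_prod_embeddings ℚ ℂ (π₀ : L)
  rw [h1] at h2
  have h3 : ‖((Algebra.norm ℤ π₀ : ℤ) : ℂ)‖ ^ 2 = (q : ℝ) ^ (2 * g) := by
    have h4 : (algebraMap ℚ ℂ) ((Algebra.norm ℤ π₀ : ℤ) : ℚ) = ((Algebra.norm ℤ π₀ : ℤ) : ℂ) := by simp
    rw [← h4, h2, norm_prod, ← Finset.prod_pow]
    have h5 : ∀ σ : L →ₐ[ℚ] ℂ, ‖σ (π₀ : L)‖ ^ 2 = (q : ℝ) := fun σ => h σ.toRingHom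
    rw [Finset.prod_congr rfl fun σ _ => h5 σ, Finset.prod_const, Finset.card_univ, AlgHom.card, hL]
  rw [Complex.norm_intCast] at h3
  have h4 : ((Algebra.norm ℤ π₀).natAbs : ℝ) = |((Algebra.norm ℤ π₀ : ℤ) : ℝ)| := by
    rw [Nat.cast_natAbs, Int.cast_abs]
  rw [← h4] at h3
  have h5 : (Algebra.norm ℤ π₀).natAbs ^ 2 = (q ^ g) ^ 2 := by
    rw [← pow_mul, mul_comm g]
    exact_mod_cast h3
  exact Nat.pow_left_injective two_ne_zero h5

/-- The node `ST`. -/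
theorem main : K511.HT.ST.{u} := by
  classical
  intro p a _ ha V _ _ _ _ hcard X _ _ g hX L _ _ hL ρ Φ hΦ hE
  have hXs := hX.smooth
  have hXp := hX.proper
  have hXc := hX.geomConnected
  have hXr : GeometricallyReduced X.hom := Groth.Agent.Flat2B.SmoothGeom.geometricallyReduced_of_smooth X.hom
  have hXi : GeometricallyIntegral X.hom := K449.Basic.geometricallyIntegral X
  have hpow : p ^ a ≠ 0 := pow_ne_zero _ (Fact.out : p.Prime).ne_zero
  have hfin : Finite (ResidueField V) := Nat.finite_of_card_ne_zero (by rw [hcard]; exact hpow)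
  have hchar : CharP (ResidueField V) p := by
    have := Fintype.ofFinite (ResidueField V)
    exact charP_of_card_eq_prime_pow (f := a) (by rw [← Nat.card_eq_fintype_card, hcard])
  let A := Red.bc (spm (residue V)) X
  let B := bcEnd (spm (residue V)) X
  have hAs : Smooth A.hom := inferInstanceAs (Smooth (pullback.snd X.hom (spm (residue V))))
  have hAp : IsProper A.hom := inferInstanceAs (IsProper (pullback.snd X.hom (spm (residue V))))
  have hAi : GeometricallyIntegral A.hom :=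
    inferInstanceAs (GeometricallyIntegral (pullback.snd X.hom (spm (residue V))))
  have hdim : topologicalKrullDim A.left = g := by
    have h1 := K216.DimPt.dim_pullback_field (spm (residue V)) X.hom (spm (residue V) (IsLocalRing.closedPoint _))
      ⟨_, rfl⟩
    exact h1.trans (hX.fibreDim _)
  have hreg : IsRegularLocalRing (R₀ A) := isRegular A
  obtain ⟨π₀, hπ⟩ := K530.HTFrob.stf (ResidueField V) A g hdim L hL (B.comp ρ)
  rw [hcard] at hπ
  refine ⟨π₀, hπ, ?_⟩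
  have hg0 : g ≠ 0 := by
    rintro rfl
    have := Module.finrank_pos (R := ℚ) (M := L)
    omega
  have hdim0 : topologicalKrullDim A.left ≠ 0 := by
    rw [hdim]
    exact_mod_cast hg0
  have hW := K525.WeilRH.main (p ^ a) (ResidueField V) hcard A hdim0 L (B.comp ρ) π₀ hπ
  have hN : Ideal.absNorm (Ideal.span {π₀}) = (p ^ a) ^ g := absNorm_eq g (p ^ a) hL π₀ (by exact_mod_cast hW)
  have hπ0 : π₀ ≠ 0 := by
    rintro rfl
    rw [Ideal.span_singleton_eq_bot.mpr rfl, Ideal.absNorm_bot] at hN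
    exact pow_ne_zero _ hpow hN.symm
  have hp0 : (p : 𝓞 L) ≠ 0 := by exact_mod_cast (Fact.out : p.Prime).ne_zero
  have hspan0 : Ideal.span {(p : 𝓞 L)} ≠ 0 := by
    rw [Ne, Ideal.zero_eq_bot, Ideal.span_singleton_eq_bot]
    exact hp0
  let S : Finset (Ideal (𝓞 L)) := (normalizedFactors (Ideal.span {(p : 𝓞 L)})).toFinset
  have hSmem : ∀ 𝔭, 𝔭 ∈ S ↔ 𝔭.IsMaximal ∧ (p : 𝓞 L) ∈ 𝔭 := by
    intro 𝔭
    rw [Multiset.mem_toFinset, Ideal.mem_normalizedFactors_iff hspan0, Ideal.span_singleton_le_iff_mem]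
    constructor
    · rintro ⟨h1, h2⟩
      refine ⟨h1.isMaximal ?_, h2⟩
      rintro rfl
      exact hp0 (by simpa using h2)
    · rintro ⟨h1, h2⟩
      exact ⟨h1.isPrime, h2⟩
  have hS : ∀ 𝔭 ∈ S, 𝔭.IsMaximal ∧ 𝔭 ≠ ⊥ := by
    intro 𝔭 h𝔭
    rw [hSmem] at h𝔭
    refine ⟨h𝔭.1, ?_⟩
    rintro rfl
    exact hp0 (by simpa using h𝔭.2)
  have hS' : ∀ 𝔭 : Ideal (𝓞 L), 𝔭.IsMaximal → π₀ ∈ 𝔭 → 𝔭 ∈ S := by
    intro 𝔭 h1 h2
    rw [hSmem]
    refine ⟨h1, ?_⟩
    have h3 := Ideal.absNorm_mem (Ideal.span {π₀})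
    rw [hN] at h3
    have h4 : (((p ^ a) ^ g : ℕ) : 𝓞 L) ∈ 𝔭 := (Ideal.span_singleton_le_iff_mem 𝔭).mpr h2 h3
    rw [Nat.cast_pow, Nat.cast_pow] at h4
    exact h1.isPrime.mem_of_pow_mem _ (h1.isPrime.mem_of_pow_mem _ h4)
  have hcnt : ∀ (P : (𝓞 L →+* V) → Prop), Nat.card {φ : 𝓞 L →+* V // φ ∈ Φ ∧ P φ} = (Φ.filter P).card := by
    intro P
    exact Nat.subtype_card _ (fun φ => by rw [Finset.mem_filter])
  have key := K324.StNum.main g (p ^ a) hpow π₀ hπ0 hN (fun b => ell (beta A (B (ρ b)))) (fun b c hb hc => ?_)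
    (fun h => ?_) (fun b hb hbt => ?_) (fun b => Nat.card {φ : 𝓞 L →+* V // φ ∈ Φ ∧ φ b ∈ maximalIdeal V})
    (fun h b c hbc => K324.StLie.ell_le X g hX (𝓞 L) ρ Φ hΦ hE (p ^ a) h b c π₀ hbc hπ inferInstance)
    (fun 𝔭 => Nat.card {φ : 𝓞 L →+* V // φ ∈ Φ ∧ (maximalIdeal V).comap φ = 𝔭}) S hS hS' (fun 𝔭 h𝔭 n hn b hb => ?_) ?_
  · intro 𝔭 h1 h2
    exact key 𝔭 ((hSmem 𝔭).2 ⟨h1, h2⟩)
  · obtain ⟨h1, h2⟩ := K324.DegK.finite_flat_of_ne_zero A L (B.comp ρ) c hc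
    have h3 : beta A (B (ρ (b * c))) = (beta A (B (ρ c))).comp (beta A (B (ρ b))) := by
      rw [map_mul, map_mul, beta_mul]
    show ell (beta A (B (ρ (b * c)))) = _
    rw [h3]
    exact ell_comp _ _ (flat_beta A (B (ρ c))) (isLocalHom_beta A (B (ρ c))) hb
  · have h1 := pow_le_ell A hdim p a h (B (ρ π₀)) hπ
    show _ ≤ ell (beta A (B (ρ (π₀ ^ h))))
    rw [map_pow, map_pow]
    exact h1
  · obtain ⟨h1, h2⟩ := K324.DegK.finite_flat_of_ne_zero A L (B.comp ρ) b hb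
    have h3 := @ell_le_finrank _ _ A _ _ (B (ρ b)) h1 h2 hbt
    have h4 := K324.DegK.finrank_eq_norm A L hdim hL (B.comp ρ) b hb (e₀ A)
    rw [← h4]
    exact h3
  · show Nat.card {φ : 𝓞 L →+* V // φ ∈ Φ ∧ φ b ∈ maximalIdeal V} ≤
      Nat.card {φ : 𝓞 L →+* V // φ ∈ Φ ∧ (maximalIdeal V).comap φ = 𝔭}
    rw [hcnt, hcnt]
    refine Finset.card_le_card fun φ hφ => ?_
    rw [Finset.mem_filter] at hφ ⊢
    refine ⟨hφ.1, ?_⟩
    have hprime : ((maximalIdeal V).comap φ).IsPrime := inferInstance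
    have h1 : 𝔭 ^ n ≤ (maximalIdeal V).comap φ := by
      rw [← hb, Ideal.span_singleton_le_iff_mem]
      exact hφ.2
    have h2 : 𝔭 ≤ (maximalIdeal V).comap φ := hprime.le_of_pow_le h1
    exact ((hS 𝔭 h𝔭).1.eq_of_le hprime.ne_top h2).symm
  · show ∑ 𝔭 ∈ S, Nat.card {φ : 𝓞 L →+* V // φ ∈ Φ ∧ (maximalIdeal V).comap φ = 𝔭} ≤ g
    have h1 := Finset.sum_card_fiberwise_eq_card_filter Φ S (fun φ : 𝓞 L →+* V => (maximalIdeal V).comap φ)
    refine (le_of_eq ?_).trans ((le_of_eq h1).trans ((Finset.card_filter_le _ _).trans hΦ.le))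
    refine Finset.sum_congr rfl fun 𝔭 _ => ?_
    rw [hcnt]
    congr!

end K324.STMain
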