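import Groth.Agent.AbVar.K324.DegK
import Groth.Agent.AbVar.K324.LocLen
import Groth.Agent.AbVar.K525.HTStt
import Groth.Agent.CycB.FiniteFlat
import Groth.Agent.AbVar.K520.Frob
import Groth.Agent.S1535
import Groth.Agent.Fga.DimCut

/-!
# Endomorphisms of a group scheme over a field and the local ring at the origin

`beta G b : R₀ G → R₀ G`, functorial, local, flat if `b` is flat; the length of its fibre is at most the rank of `b`;
for the Frobenius it is the power map and the length of the fibre of its powers is at least `Q ^ dim`.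
-/

set_option autoImplicit false
set_option linter.unusedSectionVars false
universe u
open CategoryTheory CategoryTheory.Limits MonoidalCategory CartesianMonoidalCategory MonObj GrpObj AlgebraicGeometry
open K511.HT K525.HTStt K324.LocLen IsLocalRing

noncomputable section

namespace K324.StLen

variable {κ : Type u} [Field κ] (G : Over (Spc κ)) [GrpObj G] [IsCommMonObj G]

/-- the action on the local ring at the origin -/
def beta (b : EndAV.End G) : R₀ G →+* R₀ G := (exists_beta G b).choose

theorem spm_beta (b : EndAV.End G) : spm (beta G b) ≫ jj G = jj G ≫ b.toHom.left := (exists_beta G b).choose_spec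

theorem spm_comp' {R S T : Type u} [CommRing R] [CommRing S] [CommRing T] (f : R →+* S) (h : S →+* T) :
    spm h ≫ spm f = spm (h.comp f) := (Spec.map_comp _ _).symm

theorem beta_mul (b c : EndAV.End G) : beta G (b * c) = (beta G c).comp (beta G b) := by
  apply factor_unique
  rw [spm_beta, ← spm_comp', Category.assoc, spm_beta, ← Category.assoc, spm_beta, Category.assoc]
  rfl

theorem beta_one : beta G 1 = RingHom.id _ := by
  apply factor_unique
  rw [spm_beta]
  have h1 : (1 : EndAV.End G).toHom.left = 𝟙 _ := rfl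
  rw [h1, Category.comp_id]
  exact ((congrArg (· ≫ jj G) (Spec.map_id (CommRingCat.of (R₀ G)))).trans (Category.id_comp _)).symm

theorem aug_beta (b : EndAV.End G) : (aug G).comp (beta G b) = aug G := by
  apply factor_unique
  rw [← spm_comp', Category.assoc, spm_beta, ← Category.assoc, spm_aug]
  have h4 : (η[G] : 𝟙_ (Over (Spc κ)) ⟶ G) ≫ b.toHom = η[G] := IsMonHom.one_hom b.toHom
  exact congrArg (fun t => t.left) h4

theorem isLocalHom_beta (b : EndAV.End G) : IsLocalHom (beta G b) := by
  refine ⟨fun a ha => ?_⟩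
  by_contra h
  have h1 : a ∈ maximalIdeal (R₀ G) := h
  have h2 : aug G (beta G b a) = 0 := by
    rw [← RingHom.comp_apply, aug_beta]
    exact (K525.HTStt.mem_maximalIdeal G a).1 h1
  exact (IsLocalRing.mem_maximalIdeal _).1 ((K525.HTStt.mem_maximalIdeal G _).2 h2) ha

theorem apply_e₀ (b : EndAV.End G) : b.toHom.left (e₀ G) = e₀ G := by
  have h4 : (η[G] : 𝟙_ (Over (Spc κ)) ⟶ G) ≫ b.toHom = η[G] := IsMonHom.one_hom b.toHom
  exact congrArg (fun t : 𝟙_ (Over (Spc κ)) ⟶ G => t.left (IsLocalRing.closedPoint κ)) h4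

/-- `beta` as a morphism -/
def betaC (b : EndAV.End G) : G.left.presheaf.stalk (e₀ G) ⟶ G.left.presheaf.stalk (e₀ G) :=
  CommRingCat.ofHom (show G.left.presheaf.stalk (e₀ G) →+* G.left.presheaf.stalk (e₀ G) from beta G b)

/-- comparison with the stalk map -/
theorem stalk_key (b : EndAV.End G) (P : ∀ (y : G.left) (_ : G.left.presheaf.stalk y ⟶ G.left.presheaf.stalk (e₀ G)), Prop)
    (h : P _ (b.toHom.left.stalkMap (e₀ G))) : P (e₀ G) (betaC G b) := by
  have key : ∀ (y : G.left) (hy : y = e₀ G) (θ : G.left.presheaf.stalk y ⟶ G.left.presheaf.stalk (e₀ G))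
      (hθ : Spec.map θ ≫ G.left.fromSpecStalk y = G.left.fromSpecStalk (e₀ G) ≫ b.toHom.left) (h : P y θ),
      P (e₀ G) (betaC G b) := by
    rintro _ rfl θ hθ h
    have h1 : spm θ.hom ≫ jj G = spm (beta G b) ≫ jj G := (hθ.trans (spm_beta G b).symm : _)
    have h2 : θ.hom = beta G b := factor_unique h1
    have h3 : θ = betaC G b := CommRingCat.hom_ext h2
    rw [← h3]
    exact h
  exact key _ (apply_e₀ G b) _ (Scheme.SpecMap_stalkMap_fromSpecStalk b.toHom.left) h

theorem flat_beta (b : EndAV.End G) [Flat b.toHom.left] : (beta G b).Flat :=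
  stalk_key G b (fun _ θ => θ.hom.Flat) (Flat.stalkMap b.toHom.left (e₀ G))

theorem fibIdeal_eq (b : EndAV.End G) :
    Groth.Agent.CycB.FiberStalk.fibIdeal b.toHom.left (e₀ G) = (maximalIdeal (R₀ G)).map (beta G b) :=
  stalk_key G b (fun y θ => Groth.Agent.CycB.FiberStalk.fibIdeal b.toHom.left (e₀ G) =
    (maximalIdeal (G.left.presheaf.stalk y)).map θ.hom) rfl

/-- **The length of the fibre of `beta b` is at most the degree of `b`.** -/
theorem ell_le_finrank (b : EndAV.End G) [IsFinite b.toHom.left] [Flat b.toHom.left] (h : ell (beta G b) ≠ ⊤) :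
    ell (beta G b) ≤ Scheme.Hom.finrank b.toHom.left (e₀ G) := by
  have h1 := Groth.Agent.CycB.FiniteFlat.finsum_finite_flat b.toHom.left (e₀ G)
  have hfin : {x : G.left | b.toHom.left x = e₀ G}.Finite := b.toHom.left.finite_preimage_singleton (e₀ G)
  have h2 : ell (beta G b) = Module.length (G.left.presheaf.stalk (e₀ G)) (G.left.presheaf.stalk (e₀ G) ⧸
      Groth.Agent.CycB.FiberStalk.fibIdeal b.toHom.left (e₀ G)) := by
    rw [fibIdeal_eq]
    rfl
  rw [finsum_mem_eq_finite_toFinset_sum _ hfin] at h1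
  have h3 : e₀ G ∈ hfin.toFinset := by
    rw [Set.Finite.mem_toFinset]
    exact apply_e₀ G b
  have h4 := Finset.single_le_sum (f := fun x => (Module.length (G.left.presheaf.stalk x)
      (G.left.presheaf.stalk x ⧸ Groth.Agent.CycB.FiberStalk.fibIdeal b.toHom.left x)).toNat * b.toHom.left.residueDegree x)
      (fun _ _ => Nat.zero_le _) h3
  rw [h1, ← h2] at h4
  have h5 : 1 ≤ b.toHom.left.residueDegree (e₀ G) := by
    have h6 := Groth.Agent.CycB.FiniteFlat.residueFieldMap_finite b.toHom.left (e₀ G)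
    algebraize [(b.toHom.left.residueFieldMap (e₀ G)).hom]
    exact Module.finrank_pos
  have h7 : (ell (beta G b)).toNat ≤ Scheme.Hom.finrank b.toHom.left (e₀ G) :=
    (Nat.le_mul_of_pos_right _ h5).trans h4
  rw [← ENat.natCast_toNat h]
  exact_mod_cast h7

/-! ### Frobenius -/

/-- The Frobenius acts on the local ring by the power map. -/
theorem beta_frob (q : ℕ) (b : EndAV.End G) (hb : K511.HT.IsFrob q b.toHom) (x : R₀ G) : beta G b x = x ^ q := by
  obtain ⟨h1, h2, h3⟩ := hb
  have key := stalk_key G b (fun y θ => ∀ (U : G.left.Opens) (hy : y ∈ U) (he : e₀ G ∈ U) (s : Γ(G.left, U)),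
    θ.hom ((G.left.presheaf.germ U y hy).hom s) = ((G.left.presheaf.germ U (e₀ G) he).hom s) ^ q) (by
      intro U hy he s
      have e1 := Scheme.Hom.germ_stalkMap b.toHom.left U (e₀ G) hy
      have e2 := congrArg (fun t => t.hom s) e1
      rw [CommRingCat.hom_comp, RingHom.comp_apply] at e2
      refine e2.trans ?_
      rw [CommRingCat.hom_comp, RingHom.comp_apply]
      have e3 := h3 U s
      rw [← map_pow, ← e3]
      unfold Scheme.Hom.appLE
      rw [CommRingCat.hom_comp, RingHom.comp_apply]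
      exact (G.left.presheaf.germ_res_apply (homOfLE (h2 U)) (e₀ G) he _).symm)
  obtain ⟨U, hU, s, rfl⟩ := G.left.presheaf.exists_germ_eq x
  exact key U hU hU s

theorem beta_pow (q : ℕ) (b : EndAV.End G) (hb : K511.HT.IsFrob q b.toHom) (h : ℕ) (x : R₀ G) :
    beta G (b ^ h) x = x ^ (q ^ h) := by
  induction h generalizing x with
  | zero => rw [pow_zero, beta_one, pow_zero, pow_one]; rfl
  | succ h ih =>
    rw [pow_succ, beta_mul, RingHom.comp_apply, ih, beta_frob G q b hb, ← pow_mul, pow_succ]

section smooth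

variable [IsProper G.hom] [GeometricallyIntegral G.hom]

theorem isClosed_e₀ : IsClosed ({e₀ G} : Set G.left) := by
  have h1 : IsClosedImmersion (η[G] : 𝟙_ (Over (Spc κ)) ⟶ G).left := by
    have h2 : (η[G] : 𝟙_ (Over (Spc κ)) ⟶ G).left ≫ G.hom = 𝟙 (Spc κ) := Over.w η[G]
    have h30 : IsClosedImmersion (𝟙 (Spec (CommRingCat.of κ))) := inferInstance
    have h3 : IsClosedImmersion ((η[G] : 𝟙_ (Over (Spc κ)) ⟶ G).left ≫ G.hom) := h2 ▸ h30
    exact IsClosedImmersion.of_comp _ G.hom
  have h4 := (η[G] : 𝟙_ (Over (Spc κ)) ⟶ G).left.isClosedEmbedding.isClosed_range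
  convert h4
  ext x
  constructor
  · rintro rfl
    exact ⟨_, rfl⟩
  · rintro ⟨y, rfl⟩
    exact congrArg _ (Subsingleton.elim (α := Spec (CommRingCat.of κ)) _ _)

theorem isRegular [Smooth G.hom] : IsRegularLocalRing (R₀ G) := by
  let _ : G.left.Over (Spec (CommRingCat.of κ)) := ⟨G.hom⟩
  have : Smooth (G.left ↘ Spec (CommRingCat.of κ)) := ‹Smooth G.hom›
  exact Groth.Agent.S1535.result κ G.left (e₀ G)

theorem dim_R₀ {g : ℕ} (hg : topologicalKrullDim G.left = g) : ringKrullDim (R₀ G) = g := by
  let _ : G.left.Over (Spec (CommRingCat.of κ)) := ⟨G.hom⟩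
  have : IsIntegral G.left := GeometricallyIntegral.isIntegral_of_subsingleton G.hom
  have : LocallyOfFiniteType (G.left ↘ Spec (CommRingCat.of κ)) := (inferInstance : LocallyOfFiniteType G.hom)
  rw [← hg]
  exact Groth.Agent.Fga.DimCut.ringKrullDim_stalk_eq κ G.left (e₀ G) (isClosed_e₀ G)

omit [IsCommMonObj G] [IsProper G.hom] [GeometricallyIntegral G.hom] in
theorem charP (p : ℕ) [CharP κ p] : CharP (R₀ G) p := charP_of_injective_ringHom (cst G).injective p

/-- **The length of the fibre of a power of Frobenius.** -/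
theorem pow_le_ell [Smooth G.hom] {g : ℕ} (hg : topologicalKrullDim G.left = g) (p a h : ℕ) [Fact p.Prime] [CharP κ p]
    (b : EndAV.End G) (hb : K511.HT.IsFrob (p ^ a) b.toHom) :
    ((((p ^ a) ^ h) ^ g : ℕ) : ℕ∞) ≤ ell (beta G (b ^ h)) := by
  have := charP G p
  have := isRegular G
  have h1 := Groth.Agent.Lefpen.H715.Frob.le_len_frob (S := R₀ G) p (dim_R₀ G hg) (a * h)
  have h2 : iterateFrobenius (R₀ G) p (a * h) = beta G (b ^ h) := by
    ext x
    rw [beta_pow G (p ^ a) b hb, iterateFrobenius_def, pow_mul]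
  rw [h2, pow_mul] at h1
  exact h1

end smooth

end K324.StLen
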