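import Groth.Agent.AbVar.K324.StLen
import Groth.Agent.AbVar.K525.HTLie
import Mathlib.LinearAlgebra.Dimension.Finrank

/-!
# The length of the fibre of an endomorphism and its kernel on the tangent space
-/

set_option autoImplicit false
universe u
open CategoryTheory CategoryTheory.Limits MonoidalCategory CartesianMonoidalCategory MonObj GrpObj AlgebraicGeometry
open IsLocalRing
open scoped NumberField

namespace K324.StLie

section gens

variable {κ R : Type u} [Field κ] [CommRing R] [IsLocalRing R] [IsNoetherianRing R] (ε : R →+* κ) (c : κ →+* R)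
  (hc : ∀ a, ε (c a) = a) (hm : ∀ x, x ∈ maximalIdeal R ↔ ε x = 0)

include hc hm in
/-- Generators of the maximal ideal modulo `I` and functionals. -/
theorem exists_gens (I : Ideal R) : ∃ (n : ℕ) (y : Fin n → R) (l : Fin n → maximalIdeal R → κ),
    (∀ i, y i ∈ maximalIdeal R) ∧ maximalIdeal R ≤ Ideal.span (Set.range y) ⊔ I ⊔ maximalIdeal R ^ 2 ∧
    (∀ i x z, l i (x + z) = l i x + l i z) ∧ (∀ i (a : R) (x : maximalIdeal R), l i (a • x) = ε a * l i x) ∧
    (∀ t : Fin n → κ, (∀ x, ∑ i, t i * l i x = 0) → t = 0) ∧ ∀ i (x : maximalIdeal R), (x : R) ∈ I → l i x = 0 := by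
  classical
  let N : Submodule R (maximalIdeal R) := Submodule.comap (maximalIdeal R).subtype (I ⊔ maximalIdeal R ^ 2)
  let M := (maximalIdeal R) ⧸ N
  let _ : Module κ M := Module.compHom M c
  have hsm : ∀ (a : κ) (x : M), a • x = c a • x := fun _ _ => rfl
  have hkill : ∀ (a : R) (ha : a ∈ maximalIdeal R) (x : M), a • x = 0 := by
    intro a ha x
    obtain ⟨x, rfl⟩ := Submodule.Quotient.mk_surjective _ x
    rw [← Submodule.Quotient.mk_smul, Submodule.Quotient.mk_eq_zero]
    change a * (x : R) ∈ I ⊔ maximalIdeal R ^ 2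
    refine Ideal.mem_sup_right ?_
    rw [pow_two]
    exact Ideal.mul_mem_mul ha x.2
  have hact : ∀ (a : R) (x : M), a • x = ε a • x := by
    intro a x
    have h1 : (a - c (ε a)) • x = 0 := hkill _ (by rw [hm, map_sub, hc, sub_self]) x
    rw [sub_smul, sub_eq_zero] at h1
    rw [h1, hsm]
  have hfin : Module.Finite κ M := by
    obtain ⟨s, hs⟩ := (inferInstance : Module.Finite R M).fg_top
    refine ⟨⟨s, ?_⟩⟩
    rw [eq_top_iff]
    intro x _
    have hx : x ∈ Submodule.span R (s : Set M) := by rw [hs]; trivial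
    induction hx using Submodule.span_induction with
    | mem x hx => exact Submodule.subset_span hx
    | zero => exact Submodule.zero_mem _
    | add x y _ _ hx hy => exact Submodule.add_mem _ (hx trivial) (hy trivial)
    | smul a x _ hx => rw [hact]; exact Submodule.smul_mem _ _ (hx trivial)
  let b := Module.finBasis κ M
  choose y hy using fun i => Submodule.Quotient.mk_surjective N (b i)
  refine ⟨_, fun i => (y i : R), fun i x => b.repr (Submodule.Quotient.mk x) i, fun i => (y i).2, ?_, ?_, ?_, ?_, ?_⟩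
  · intro x hx
    have h1 : (Submodule.Quotient.mk (⟨x, hx⟩ : maximalIdeal R) : M) =
        Submodule.Quotient.mk (∑ i, c (b.repr (Submodule.Quotient.mk ⟨x, hx⟩) i) • y i) := by
      conv_lhs => rw [← b.sum_repr (Submodule.Quotient.mk ⟨x, hx⟩)]
      have h2 : (Submodule.Quotient.mk (∑ i, c (b.repr (Submodule.Quotient.mk ⟨x, hx⟩) i) • y i) : M) =
          N.mkQ (∑ i, c (b.repr (Submodule.Quotient.mk ⟨x, hx⟩) i) • y i) := rfl
      rw [h2, map_sum]
      refine Finset.sum_congr rfl fun i _ => ?_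
      rw [map_smul, hsm, ← hy i]
      rfl
    rw [Submodule.Quotient.eq] at h1
    have h2 : x - ∑ i, c (b.repr (Submodule.Quotient.mk ⟨x, hx⟩) i) * (y i : R) ∈ I ⊔ maximalIdeal R ^ 2 := by
      have h3 : ((⟨x, hx⟩ - ∑ i, c (b.repr (Submodule.Quotient.mk ⟨x, hx⟩) i) • y i : maximalIdeal R) : R) ∈
          I ⊔ maximalIdeal R ^ 2 := h1
      convert h3 using 1
      simp
    have h3 : ∑ i, c (b.repr (Submodule.Quotient.mk ⟨x, hx⟩) i) * (y i : R) ∈
        Ideal.span (Set.range fun i => (y i : R)) :=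
      Ideal.sum_mem _ fun i _ => Ideal.mul_mem_left _ _ (Ideal.subset_span ⟨i, rfl⟩)
    have h4 : x = ∑ i, c (b.repr (Submodule.Quotient.mk ⟨x, hx⟩) i) * (y i : R) +
      (x - ∑ i, c (b.repr (Submodule.Quotient.mk ⟨x, hx⟩) i) * (y i : R)) := by ring
    rw [sup_assoc, h4]
    exact Submodule.add_mem_sup h3 h2
  · intro i x z
    change b.repr (Submodule.Quotient.mk (x + z)) i = _
    rw [Submodule.Quotient.mk_add, map_add]
    rfl
  · intro i a x
    change b.repr (Submodule.Quotient.mk (a • x)) i = _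
    rw [Submodule.Quotient.mk_smul, hact, map_smul]
    rfl
  · intro t ht
    funext j
    have h1 := ht (y j)
    simp only [hy, Module.Basis.repr_self] at h1
    rw [Finset.sum_eq_single j (fun i _ hij => by rw [Finsupp.single_eq_of_ne hij, mul_zero])
      (fun h => absurd (Finset.mem_univ j) h), Finsupp.single_eq_same, _root_.mul_one] at h1
    exact h1
  · intro i x hx
    have h1 : (Submodule.Quotient.mk x : M) = 0 := by
      rw [Submodule.Quotient.mk_eq_zero]
      exact Ideal.mem_sup_left hx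
    change b.repr (Submodule.Quotient.mk x) i = _
    rw [h1, map_zero]
    rfl

end gens

open K511.HT K525.HTStt K324.LocLen K324.StLen

/-- **The length of the fibre of `b` when `b` divides a power of Frobenius.** -/
theorem ell_le {V : Type u} [CommRing V] [IsDomain V] [IsDiscreteValuationRing V]
    (X : Over (Spc V)) [GrpObj X] [IsCommMonObj X] (g : ℕ) (hX : AgPol.IsAbSch X g)
    (O : Type) [CommRing O] (ρ : O →+* EndAV.End X) (Φ : Finset (O →+* V)) (hΦ : Φ.card = g)
    (hE : ∀ φ ∈ Φ, Eig (FractionRing V) (Red.bc (spm (algebraMap V (FractionRing V))) X)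
      ((bcEnd (spm (algebraMap V (FractionRing V))) X).comp ρ) ((algebraMap V (FractionRing V)).comp φ))
    (q h : ℕ) (b c π₀ : O) (hb : c * b = π₀ ^ h)
    (hπ : IsFrob q (bcEnd (spm (IsLocalRing.residue V)) X (ρ π₀)).toHom)
    (hreg : IsNoetherianRing (R₀ (Red.bc (spm (IsLocalRing.residue V)) X))) :
    ell (beta (Red.bc (spm (IsLocalRing.residue V)) X) (bcEnd (spm (IsLocalRing.residue V)) X (ρ b))) ≤
      (((q ^ h) ^ Nat.card {φ : O →+* V // φ ∈ Φ ∧ φ b ∈ IsLocalRing.maximalIdeal V} : ℕ) : ℕ∞) := by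
  set G := Red.bc (spm (IsLocalRing.residue V)) X with hG
  set B := bcEnd (spm (IsLocalRing.residue V)) X with hB
  obtain ⟨n, y, l, hy, hspan, h0, h1, hl, hI⟩ := exists_gens (aug G) (cst G) (aug_cst G)
    (K525.HTStt.mem_maximalIdeal G) ((maximalIdeal (R₀ G)).map (beta G (B (ρ b))))
  obtain ⟨v, hv1, hv2⟩ := stt l h0 h1 hl
  have hn : n ≤ Nat.card {φ : O →+* V // φ ∈ Φ ∧ φ b ∈ IsLocalRing.maximalIdeal V} := by
    refine K525.HTLie.lie2_ST X g hX O ρ Φ hΦ hE b n v ?_ hv1
    exact hv2 (B (ρ b)) (beta G (B (ρ b))) (spm_beta G _) fun i x hx => hI i _ (Ideal.mem_map_of_mem _ x.2)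
  have hq : q ≠ 0 := by
    rintro rfl
    have h2 := beta_frob G 0 (B (ρ π₀)) hπ 0
    rw [map_zero, pow_zero] at h2
    exact zero_ne_one h2
  refine (ell_le_pow (beta G (B (ρ b))) y hspan (q ^ h) fun i => ?_).trans ?_
  · have h2 : (beta G (B (ρ b))).comp (beta G (B (ρ c))) (y i) = y i ^ (q ^ h) := by
      rw [← beta_mul, ← map_mul, ← map_mul, hb, map_pow, map_pow]
      exact beta_pow G q _ hπ h (y i)
    rw [← h2, RingHom.comp_apply]
    refine Ideal.mem_map_of_mem _ ?_
    have := isLocalHom_beta G (B (ρ c))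
    exact map_nonunit (beta G (B (ρ c))) _ (hy i)
  · exact_mod_cast Nat.pow_le_pow_right (Nat.pos_of_ne_zero (pow_ne_zero _ hq)) hn

end K324.StLie
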